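import Cfsg.Agent.Blackburn.Prelim
import Cfsg.Agent.S4143

/-!
`p`-groups of rank two with an element of order `p` outside a normal elementary abelian subgroup of order `p²`.
-/

set_option autoImplicit false
set_option linter.style.haveILetI false
set_option maxHeartbeats 800000

namespace CfsgLib.Blackburn

open scoped commutatorElement
open CfsgLib.PLocalBasics

universe u

variable {p : ℕ} [hp : Fact p.Prime] {G : Type u} [Group G] [Finite G]

theorem case_two (hp2 : p ≠ 2) {n : ℕ} (hG : Nat.card G = p ^ n)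
    (hrk : ∀ E : Subgroup G, Cfsg.IsElementaryAbelian p E → Nat.card E ≤ p ^ 2)
    {A : Subgroup G} [A.Normal] (hA : Cfsg.IsElementaryAbelian p A) (hA2 : Nat.card A = p ^ 2)
    {x : G} (hxp : x ^ p = 1) (hxA : x ∉ A) :
    (p = 3 ∧ 2 ≤ n ∧ (⊤ : Subgroup G).lowerCentralSeries (n - 2) ≠ ⊥) ∨
    (((3 ≤ n ∧ ∃ x y z : G, Subgroup.closure ({x, y, z} : Set G) = ⊤ ∧ x ^ p = 1 ∧ y ^ p = 1 ∧
        z ^ p ^ (n - 2) = 1 ∧ x * z = z * x ∧ y * z = z * y ∧ x⁻¹ * y * x = y * z ^ p ^ (n - 3)) ∨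
      (4 ≤ n ∧ ∃ (s : ℕ) (x y z : G), (s = 1 ∨ ¬ IsSquare (s : ZMod p)) ∧
        Subgroup.closure ({x, y, z} : Set G) = ⊤ ∧ x ^ p = 1 ∧ y ^ p = 1 ∧ z ^ p ^ (n - 2) = 1 ∧ y * z = z * y ∧
        x⁻¹ * y * x = y * z ^ (s * p ^ (n - 3)) ∧ x⁻¹ * z * x = y * z)) ∧ (p = 3 → BCond p G)) := by
  classical
  have hP : IsPGroup p G := IsPGroup.of_card hG
  have hp1 : 1 < p := hp.out.one_lt
  haveI := hA.1
  set C := Subgroup.centralizer (A : Set G) with hCdef
  have hΩ : ∀ y ∈ C, y ^ p = 1 → y ∈ A := omega_centralizer hrk hA hA2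
  have hAC : A ≤ C := Subgroup.le_centralizer A
  have hCA : ∀ c ∈ C, ∀ a ∈ A, Commute a c := fun c hc a ha => Subgroup.mem_centralizer_iff.1 hc a ha
  have hxC : x ∉ C := fun h => hxA (hΩ x h hxp)
  have hx1 : x ≠ 1 := fun e => hxC (e ▸ one_mem C)
  have hxo : orderOf x = p := orderOf_eq_prime hxp hx1
  have hCn : C.Normal := inferInstance
  have hCi : C.index = p := by
    obtain ⟨k, hk⟩ := hP.index C
    have h := index_centralizer_le hP 2 A inferInstance hA2.le
    rw [Nat.choose_self, hk, Nat.pow_le_pow_iff_right hp1] at h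
    interval_cases k
    · rw [pow_zero, Subgroup.index_eq_one] at hk
      exact absurd (hk ▸ Subgroup.mem_top x) hxC
    · rw [hk, pow_one]
  have hGC : Nat.card G = Nat.card C * p := by rw [← hCi, Subgroup.card_mul_index]
  have hdec : ∀ g : G, ∃ c ∈ C, ∃ i : ℕ, g = c * x ^ i := by
    have htop : C ⊔ Subgroup.zpowers x = ⊤ := Subgroup.eq_top_of_card_eq _ (by
      rw [card_sup_zpowers (p := p) hxC (by rw [hxp]; exact one_mem _), hGC])
    intro g
    obtain ⟨c, hc, y, hy, hcy⟩ := Subgroup.mem_sup_of_normal_left.1 (htop.ge (Subgroup.mem_top g))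
    obtain ⟨i, rfl⟩ := exists_nat_pow_eq hy
    exact ⟨c, hc, i, hcy.symm⟩
  -- the central subgroup `Z` of `A`
  obtain ⟨Z, hZn, -, hZlt, hZc⟩ := exists_central_step hP (inferInstance : (⊥ : Subgroup G).Normal) ‹A.Normal›
    (bot_lt_iff_ne_bot.2 fun h => by
      rw [h, Subgroup.card_bot] at hA2
      exact (Nat.one_lt_pow two_ne_zero hp1).ne hA2)
  have hZA : Z ≤ A := hZlt.le
  have hZne : Z ≠ ⊥ := by
    intro e
    refine hxC (Subgroup.mem_centralizer_iff.2 fun a ha => ?_)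
    have h := hZc a ha x
    rw [e, Subgroup.mem_bot, commutatorElement_eq_one_iff_mul_comm] at h
    exact h
  have hZcard : Nat.card Z = p := by
    obtain ⟨k, hk, hk'⟩ := (Nat.dvd_prime_pow hp.out).1 (hA2 ▸ Subgroup.card_dvd_of_le hZA)
    have h0 : k ≠ 0 := fun e => hZne (Subgroup.card_eq_one.1 (by rw [hk', e, pow_zero]))
    have h2 : k ≠ 2 := fun e => hZlt.ne (Subgroup.eq_of_le_of_card_ge hZA (by rw [hA2, hk', e]))
    rw [hk', show k = 1 by omega, pow_one]
  have hZcen : Z ≤ Subgroup.center G := le_center_of_card_le hP hZn hZcard.le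
  have hZp : ∀ w ∈ Z, w ^ p = 1 := fun w hw => hA.2 w (hZA hw)
  have hZcomm : ∀ w ∈ Z, ∀ g : G, Commute w g := fun w hw g => (Subgroup.mem_center_iff.1 (hZcen hw) g).symm
  have hZgen : ∀ w ∈ Z, w ≠ 1 → Subgroup.zpowers w = Z := fun w hw h1 =>
    Subgroup.eq_of_le_of_card_ge (Subgroup.zpowers_le.2 hw)
      (by rw [hZcard, Nat.card_zpowers, orderOf_eq_prime (hZp w hw) h1])
  have hAgen : ∀ a ∈ A, a ∉ Z → Z ⊔ Subgroup.zpowers a = A := fun a ha haZ =>
    (pow_mem_of_card_step hZA (by rw [hA2, hZcard, pow_two])).2 a ha haZ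
  have hZfix : ∀ a ∈ A, x * a * x⁻¹ = a → a ∈ Z := by
    intro a ha hfix
    by_contra haZ
    refine hxC (Subgroup.mem_centralizer_iff.2 fun b hb => ?_)
    have hle : A ≤ Subgroup.centralizer ({x} : Set G) := (hAgen a ha haZ).ge.trans (sup_le
      (fun z hz => Subgroup.mem_centralizer_singleton_iff.2 (hZcomm z hz x).eq)
      (Subgroup.zpowers_le.2 (Subgroup.mem_centralizer_singleton_iff.2 (mul_inv_eq_iff_eq_mul.1 hfix).symm)))
    exact Subgroup.mem_centralizer_singleton_iff.1 (hle hb)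
  -- the map `c ↦ c⁻¹ c^x`
  set σ : G → G := fun c => c⁻¹ * (x * c * x⁻¹) with hσdef
  have hσx : ∀ c, x * c * x⁻¹ = c * σ c := fun c => by simp [hσdef]
  have hσmul : ∀ c₁ ∈ C, ∀ c₂ ∈ C, σ c₁ ∈ A → σ (c₁ * c₂) = σ c₁ * σ c₂ := by
    intro c₁ _ c₂ hc₂ hA1
    calc σ (c₁ * c₂) = c₂⁻¹ * (σ c₁ * c₂) * σ c₂ := by simp only [hσdef]; group
      _ = c₂⁻¹ * (c₂ * σ c₁) * σ c₂ := by rw [(hCA c₂ hc₂ _ hA1).eq]
      _ = _ := by rw [inv_mul_cancel_left]
  have hσA : ∀ a ∈ A, σ a ∈ Z := fun a ha => by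
    have e : σ a = ⁅a⁻¹, x⁆ := by simp only [hσdef, commutatorElement_def]; group
    rw [e]; exact hZc _ (inv_mem ha) x
  -- the subgroup `E = A⟨x⟩`
  set E := A ⊔ Subgroup.zpowers x with hEdef
  have hAE : A ≤ E := le_sup_left
  have hxE : x ∈ E := Subgroup.mem_sup_right (Subgroup.mem_zpowers x)
  have hEc : Nat.card E = p ^ 3 := by
    rw [hEdef, card_sup_zpowers (p := p) hxA (by rw [hxp]; exact one_mem _), hA2, ← pow_succ]
  have hEdec : ∀ e ∈ E, ∃ a ∈ A, ∃ i : ℕ, e = a * x ^ i := by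
    intro e he
    obtain ⟨a, ha, y, hy, rfl⟩ := Subgroup.mem_sup_of_normal_left.1 he
    obtain ⟨i, rfl⟩ := exists_nat_pow_eq hy
    exact ⟨a, ha, i, rfl⟩
  obtain ⟨q, hq⟩ := CfsgLib.PGroup.dvd_choose_two (p := p) hp2
  have hEp : ∀ e ∈ E, e ^ p = 1 := by
    intro e he
    obtain ⟨a, ha, i, rfl⟩ := hEdec e he
    have hc : ⁅x ^ i, a⁆ ∈ Z := by
      have := inv_mem (hZc a ha (x ^ i)); rwa [commutatorElement_inv] at this
    rw [CfsgLib.PGroup.mul_pow_central (hZcen hc), hA.2 a ha, ← pow_mul, mul_comm i p, pow_mul, hxp, one_pow,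
      hq, pow_mul, hZp _ hc, one_pow, one_mul, mul_one]
  have hEZ : ∀ a ∈ E, ∀ b ∈ E, ⁅a, b⁆ ∈ Z := by
    intro a ha b hb
    obtain ⟨a₁, ha₁, i, rfl⟩ := hEdec a ha
    obtain ⟨b₁, hb₁, j, rfl⟩ := hEdec b hb
    refine (QuotientGroup.eq_one_iff _).1 ?_
    show QuotientGroup.mk' Z ⁅_, _⁆ = 1
    rw [map_commutatorElement, commutatorElement_eq_one_iff_mul_comm, map_mul, map_mul]
    set π := QuotientGroup.mk' Z
    have hA' : ∀ u ∈ A, ∀ g : G, Commute (π u) (π g) := fun u hu g => by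
      show π u * π g = π g * π u
      rw [← commutatorElement_eq_one_iff_mul_comm, ← map_commutatorElement]
      exact (QuotientGroup.eq_one_iff _).2 (hZc u hu g)
    have hxx : Commute (π (x ^ i)) (π (x ^ j)) := ((Commute.refl x).pow_pow i j).map π
    exact (((hA' a₁ ha₁ b₁).mul_right (hA' a₁ ha₁ _)).mul_left ((hA' b₁ hb₁ _).symm.mul_right hxx)).eq
  have hσE : ∀ c ∈ C, c ∈ Subgroup.normalizer (E : Set G) → σ c ∈ A := by
    intro c hc hcN
    set u := x * c * x⁻¹ * c⁻¹ with hu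
    have huE : u ∈ E := by
      rw [hu, mul_assoc x c, mul_assoc x]
      exact mul_mem hxE ((Subgroup.mem_normalizer_iff.1 hcN _).1 (inv_mem hxE))
    have huA : u ∈ A := hΩ u (mul_mem (hCn.conj_mem c hc x) (inv_mem hc)) (hEp u huE)
    have e : σ c = u := by
      calc σ c = c⁻¹ * (u * c) := by simp only [hσdef, hu]; group
        _ = c⁻¹ * (c * u) := by rw [(hCA c hc u huA).eq]
        _ = u := inv_mul_cancel_left _ _
    rw [e]; exact huA
  -- the cyclic subgroup `D = C_C(x)`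
  set D := C ⊓ Subgroup.centralizer ({x} : Set G) with hDdef
  have hD : ∀ c, c ∈ D ↔ c ∈ C ∧ Commute x c := fun c => by
    rw [hDdef, Subgroup.mem_inf, Subgroup.mem_centralizer_singleton_iff]
    exact and_congr_right fun _ => ⟨fun h => h.symm, fun h => h.symm⟩
  have hDp : ∀ c ∈ D, c ^ p = 1 → c ∈ Z := fun c hc hcp => by
    obtain ⟨h1, h2⟩ := (hD c).1 hc
    exact hZfix c (hΩ c h1 hcp) (by rw [h2.eq, mul_inv_cancel_right])
  have hDfix : ∀ c ∈ C, σ c = 1 → c ∈ D := fun c hc h => (hD c).2 ⟨hc, by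
    have h1 := hσx c
    rw [h, mul_one, mul_inv_eq_iff_eq_mul] at h1
    exact h1⟩
  have hσD : ∀ c ∈ D, σ c = 1 := fun c hc => by
    simp only [hσdef]; rw [((hD c).1 hc).2.eq, mul_inv_cancel_right, inv_mul_cancel]
  have hZD : Z ≤ D := fun w hw => (hD w).2 ⟨hAC (hZA hw), (hZcomm w hw x).symm⟩
  have hDcy : IsCyclic D := by
    by_contra hnc
    obtain ⟨A', -, hA', hA'c⟩ := Cfsg.Agent.S0126.result hp2 (hP.to_subgroup D) hnc
    have hle : A'.map D.subtype ≤ Z := by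
      rintro _ ⟨w, hw, rfl⟩
      exact hDp _ w.2 (congrArg Subtype.val (hA'.2 w hw))
    have h := Subgroup.card_le_of_le hle
    rw [Subgroup.card_map_of_injective D.subtype_injective, hA'c, hZcard] at h
    nlinarith
  obtain ⟨⟨d, hdD⟩, hdgen⟩ := hDcy.exists_generator
  have hDd : ∀ c ∈ D, c ∈ Subgroup.zpowers d := fun c hc => by
    obtain ⟨i, hi⟩ := Subgroup.mem_zpowers_iff.1 (hdgen ⟨c, hc⟩)
    exact ⟨i, congrArg Subtype.val hi⟩
  obtain ⟨hdC, hdx⟩ := (hD d).1 hdD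
  have hdcomm : ∀ c ∈ D, Commute c d := fun c hc => by
    obtain ⟨i, rfl⟩ := Subgroup.mem_zpowers_iff.1 (hDd c hc)
    exact (Commute.refl d).zpow_left i
  obtain ⟨m, hm⟩ := IsPGroup.iff_orderOf.1 hP d
  have hm1 : 1 ≤ m := by
    by_contra h0
    rw [show m = 0 by omega, pow_zero, orderOf_eq_one_iff] at hm
    subst hm
    refine hZne (eq_bot_iff.2 fun w hw => ?_)
    have := hDd w (hZD hw)
    rwa [Subgroup.zpowers_one_eq_bot] at this
  set z₀ := d ^ p ^ (m - 1) with hz₀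
  have hz₀o : orderOf z₀ = p := by
    rw [hz₀, orderOf_pow' _ (pow_ne_zero _ hp.out.ne_zero), hm, Nat.gcd_eq_right (pow_dvd_pow p (Nat.sub_le m 1)),
      Nat.pow_div (Nat.sub_le m 1) hp.out.pos, show m - (m - 1) = 1 by omega, pow_one]
  have hz₀Z : z₀ ∈ Z := hDp _ (pow_mem hdD _) (by rw [← hz₀o]; exact pow_orderOf_eq_one z₀)
  have hz₀1 : z₀ ≠ 1 := fun e => by rw [e, orderOf_one] at hz₀o; omega
  have hZz₀ : Subgroup.zpowers z₀ = Z := hZgen z₀ hz₀Z hz₀1
  have hn3 : 3 ≤ n := by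
    have h := Subgroup.card_subgroup_dvd_card E
    rw [hEc, hG] at h
    exact (Nat.pow_dvd_pow_iff_le_right hp1).1 h
  by_cases hspecial : p = 3 ∧ m = 1
  · refine Or.inl ⟨hspecial.1, by omega, ?_⟩
    have hxZ : x ∉ Z := fun h => hxA (hZA h)
    set X₀ := Z ⊔ Subgroup.zpowers x
    have hX₀c : Nat.card X₀ = p ^ 2 := by
      rw [card_sup_zpowers (p := p) hxZ (by rw [hxp]; exact one_mem _), hZcard, pow_two]
    have hcent : Subgroup.centralizer (X₀ : Set G) ≤ X₀ := by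
      intro g hg
      obtain ⟨c, hc, i, rfl⟩ := hdec g
      have hgx : Commute x (c * x ^ i) :=
        Subgroup.mem_centralizer_iff.1 hg x (Subgroup.mem_sup_right (Subgroup.mem_zpowers x))
      have hcx : Commute x c := by
        have := hgx.mul_right ((Commute.refl x).pow_right i).inv_right
        rwa [mul_inv_cancel_right] at this
      have hcZ : c ∈ Z := by
        have h := hDd c ((hD c).2 ⟨hc, hcx⟩)
        rwa [show d = z₀ by rw [hz₀, hspecial.2]; simp, hZz₀] at h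
      exact mul_mem (Subgroup.mem_sup_left hcZ) (Subgroup.mem_sup_right (pow_mem (Subgroup.mem_zpowers x) i))
    have hcl := Cfsg.Agent.S4143.maximal_class_of_self_centralizing n G X₀ hG hX₀c hcent
    haveI := hP.isNilpotent
    intro e
    have := (Subgroup.lowerCentralSeries_eq_bot_iff_nilpotencyClass_le (G := G)).1 e
    omega
  refine Or.inr ?_
  have hcomm_t : ∀ c ∈ C, σ c ∈ A → ∀ e ∈ D, Commute c (e ^ p) → ⁅c, e⁆ ∈ Z := by
    intro c hc hσc e he hcep
    obtain ⟨heC, hex⟩ := (hD e).1 he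
    have htC : ⁅c, e⁆ ∈ C := by
      rw [commutatorElement_def]; exact mul_mem (mul_mem (mul_mem hc heC) (inv_mem hc)) (inv_mem heC)
    have htD : ⁅c, e⁆ ∈ D := (hD _).2 ⟨htC, by
      refine mul_inv_eq_iff_eq_mul.1 ?_
      calc x * ⁅c, e⁆ * x⁻¹ = ⁅x * c * x⁻¹, x * e * x⁻¹⁆ := by simp only [commutatorElement_def]; group
        _ = ⁅c * σ c, e⁆ := by rw [hσx, hex.eq, mul_inv_cancel_right]
        _ = c * (σ c * e) * (σ c)⁻¹ * c⁻¹ * e⁻¹ := by rw [commutatorElement_def]; group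
        _ = c * (e * σ c) * (σ c)⁻¹ * c⁻¹ * e⁻¹ := by rw [(hCA e heC _ hσc).eq]
        _ = ⁅c, e⁆ := by rw [commutatorElement_def]; group⟩
    have hte : Commute ⁅c, e⁆ e := by
      obtain ⟨i, hi⟩ := Subgroup.mem_zpowers_iff.1 (hDd e he)
      rw [← hi]
      exact (hi ▸ (hdcomm _ htD)).zpow_right i
    refine hDp _ htD ?_
    have h1 : c * e * c⁻¹ = ⁅c, e⁆ * e := by rw [commutatorElement_def]; group
    have h2 : (c * e * c⁻¹) ^ p = e ^ p := by rw [conj_pow, hcep.eq, mul_inv_cancel_right]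
    rw [h1, hte.mul_pow] at h2
    exact mul_eq_right.1 h2
  have hsolve : ∀ c ∈ C, σ c ∈ A → ∀ e ∈ D, Commute c (e ^ p) → c ^ p * e ^ p = 1 → σ c ∈ Z := by
    intro c hc hσc e he hcep hprod
    have ht : ⁅e, c⁆ ∈ Z := by
      have := inv_mem (hcomm_t c hc hσc e he hcep); rwa [commutatorElement_inv] at this
    have hceC : c * e ∈ C := mul_mem hc ((hD e).1 he).1
    have h1 : (c * e) ^ p = 1 := by
      rw [CfsgLib.PGroup.mul_pow_central (hZcen ht), hprod, hq, pow_mul, hZp _ ht, one_pow, mul_one]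
    have h2 := hσA _ (hΩ _ hceC h1)
    rwa [hσmul c hc e ((hD e).1 he).1 hσc, hσD e he, mul_one] at h2
  have hcl : ∀ c ∈ C, c ∈ Subgroup.normalizer (E : Set G) → (c * x) ^ p = 1 → c ∈ A := by
    intro c hc hcN hcx
    set a := σ c with ha
    have haA : a ∈ A := hσE c hc hcN
    set z := ⁅x, a⁆ with hz
    have hzZ : z ∈ Z := by
      have := inv_mem (hZc a haA x); rwa [commutatorElement_inv] at this
    have hxa : x * a * x⁻¹ = a * z := by
      rw [← (hZcomm z hzZ a).eq, hz, commutatorElement_def]; group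
    have hform : ∀ k : ℕ, (c * x) ^ k = c ^ k * a ^ k.choose 2 * z ^ k.choose 3 * x ^ k := by
      intro k
      induction k with
      | zero => simp
      | succ k ih =>
        have hca : Commute c a := (hCA c hc a haA).symm
        have hza : Commute z a := hZcomm z hzZ a
        calc (c * x) ^ (k + 1) = c * (x * c * x⁻¹) ^ k * (x * a * x⁻¹) ^ k.choose 2 * (x * z ^ k.choose 3 * x⁻¹) * x ^ (k + 1) := by
              rw [pow_succ', ih, conj_pow, conj_pow, pow_succ']; group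
          _ = c * (c ^ k * a ^ k) * (a ^ k.choose 2 * z ^ k.choose 2) * z ^ k.choose 3 * x ^ (k + 1) := by
              rw [hσx c, ← ha, hca.mul_pow, hxa, hza.symm.mul_pow, ((hZcomm z hzZ x).pow_left _).symm.eq,
                mul_inv_cancel_right]
          _ = c * c ^ k * (a ^ k * a ^ k.choose 2) * (z ^ k.choose 2 * z ^ k.choose 3) * x ^ (k + 1) := by
              simp only [mul_assoc]
          _ = _ := by
              rw [← pow_succ', ← pow_add, ← pow_add, Nat.choose_succ_succ' k 1, Nat.choose_one_right,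
                Nat.choose_succ_succ' k 2]
    have h := hform p
    rw [hcx, hxp, mul_one, hq, pow_mul a, hA.2 a haA, one_pow, mul_one] at h
    refine hΩ c hc ?_
    by_cases hp3 : p = 3
    · subst hp3
      rw [Nat.choose_self, pow_one] at h
      have hm2 : 2 ≤ m := by
        by_contra h2
        exact hspecial ⟨rfl, by omega⟩
      set d₀ := d ^ 3 ^ (m - 2) with hd₀
      have hd₀p : d₀ ^ 3 = z₀ := by
        rw [hd₀, hz₀, ← pow_mul, ← pow_succ, show m - 2 + 1 = m - 1 by omega]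
      obtain ⟨j, hj⟩ := exists_nat_pow_eq (g := z₀) (y := c ^ 3) (by
        rw [hZz₀, eq_inv_of_mul_eq_one_left h.symm]; exact inv_mem hzZ)
      have he3 : ((d₀ ^ j)⁻¹) ^ 3 = (z₀ ^ j)⁻¹ := by rw [inv_pow, ← pow_mul, mul_comm j, pow_mul, hd₀p]
      have haZ : a ∈ Z := hsolve c hc haA (d₀ ^ j)⁻¹ (inv_mem (pow_mem (pow_mem hdD _) _))
        (by rw [he3]; exact (hZcomm _ (inv_mem (pow_mem hz₀Z _)) c).symm) (by rw [he3, ← hj, mul_inv_cancel])
      have hz1 : z = 1 := by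
        rw [hz, commutatorElement_eq_one_iff_mul_comm]; exact (hZcomm a haZ x).eq.symm
      rw [hz1, mul_one] at h
      exact h.symm
    · obtain ⟨r, hr⟩ : p ∣ p.choose 3 := Nat.Prime.dvd_choose_self hp.out (by norm_num)
        (by rcases hp.out.two_le.lt_or_eq with h2 | h2 <;> omega)
      rw [hr, pow_mul, hZp z hzZ, one_pow, mul_one] at h
      exact h.symm
  have hkey : ∀ y : G, y ^ p = 1 → y ∈ Subgroup.normalizer (E : Set G) → y ∈ E := by
    intro y hyp hyN
    obtain ⟨c₀, hc₀, i, hy⟩ := hdec y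
    by_cases hi : p ∣ i
    · obtain ⟨i', rfl⟩ := hi
      rw [pow_mul, hxp, one_pow, mul_one] at hy
      exact hAE (hΩ y (hy ▸ hc₀) hyp)
    · haveI : NeZero p := ⟨hp.out.ne_zero⟩
      set k := ((i : ZMod p)⁻¹).val with hk
      have hik : i * k ≡ 1 [MOD p] := (ZMod.natCast_eq_natCast_iff _ _ _).1 (by
        rw [Nat.cast_mul, hk, ZMod.natCast_zmod_val, Nat.cast_one]
        exact mul_inv_cancel₀ fun e => hi ((ZMod.natCast_eq_zero_iff i p).1 e))
      have hpow : ∀ g : G, g ^ p = 1 → g ^ (i * k) = g := fun g hg => by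
        conv_rhs => rw [← pow_one g]
        exact pow_eq_pow_iff_modEq.2 (hik.of_dvd (orderOf_dvd_of_pow_eq_one hg))
      set c := y ^ k * x⁻¹ with hc
      have hcC : c ∈ C := by
        refine (QuotientGroup.eq_one_iff _).1 ?_
        show QuotientGroup.mk' C c = 1
        rw [hc, map_mul, map_pow, hy, map_mul, show QuotientGroup.mk' C c₀ = 1 from (QuotientGroup.eq_one_iff c₀).2 hc₀,
          one_mul, ← map_pow, ← map_mul, ← pow_mul, hpow x hxp, mul_inv_cancel, map_one]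
      have hcx : c * x = y ^ k := by rw [hc]; group
      have hcN : c ∈ Subgroup.normalizer (E : Set G) := by
        rw [hc]; exact mul_mem (pow_mem hyN k) (inv_mem (Subgroup.le_normalizer hxE))
      have hcA := hcl c hcC hcN (by rw [hcx, ← pow_mul, mul_comm, pow_mul, hyp, one_pow])
      have hyk : y ^ k ∈ E := hcx ▸ mul_mem (hAE hcA) hxE
      have := pow_mem hyk i
      rwa [← pow_mul, mul_comm, hpow y hyp] at this
  have hEn : Subgroup.normalizer (E : Set G) = ⊤ := by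
    by_contra hN
    haveI := hP.isNilpotent
    obtain ⟨h, hh, hhn⟩ := SetLike.exists_of_lt
      ((normalizerCondition_of_isNilpotent (G := G)) (Subgroup.normalizer (E : Set G)) (Ne.lt_top hN))
    refine hhn (Subgroup.mem_normalizer_fintype fun l hl => hkey _ (by rw [conj_pow, hEp l hl, mul_one, mul_inv_cancel]) ?_)
    exact (Subgroup.mem_normalizer_iff.1 hh l).1 (Subgroup.le_normalizer hl)
  have hσ : ∀ c ∈ C, σ c ∈ A := fun c hc => hσE c hc (hEn ▸ Subgroup.mem_top c)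
  have hσpow : ∀ c ∈ C, ∀ i : ℕ, σ (c ^ i) = σ c ^ i := by
    intro c hc i
    induction i with
    | zero => simp [hσdef]
    | succ i ih => rw [pow_succ, hσmul _ (pow_mem hc i) c hc (hσ _ (pow_mem hc i)), ih, pow_succ]
  obtain ⟨a₁, ha₁, ha₁Z⟩ := SetLike.exists_of_lt hZlt
  have hw₁Z : σ a₁ ∈ Z := hσA a₁ ha₁
  have hw₁1 : σ a₁ ≠ 1 := fun e => ha₁Z (hZfix a₁ ha₁ (by rw [hσx, e, mul_one]))
  -- elements with `σ c ∈ Z` lie in `D A`
  have hsplit : ∀ c ∈ C, σ c ∈ Z → c ∈ Subgroup.zpowers d ⊔ A := by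
    intro c hc hcZ
    obtain ⟨j, hj⟩ := exists_nat_pow_eq (g := σ a₁) (y := σ c) (by rw [hZgen _ hw₁Z hw₁1]; exact hcZ)
    have hbA : a₁ ^ j ∈ A := pow_mem ha₁ j
    have hb : σ (a₁ ^ j) = σ c := by rw [hσpow a₁ (hAC ha₁) j, hj]
    set e := c * (a₁ ^ j)⁻¹ with he
    have heC : e ∈ C := mul_mem hc (inv_mem (hAC hbA))
    have h1 : σ e = 1 := by
      have := hσmul e heC (a₁ ^ j) (hAC hbA) (hσ e heC)
      rw [he, inv_mul_cancel_right, hb] at this
      exact right_eq_mul.1 this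
    have := mul_mem (Subgroup.mem_sup_left (T := A) (hDd e (hDfix e heC h1))) (Subgroup.mem_sup_right (S := Subgroup.zpowers d) hbA)
    rwa [he, inv_mul_cancel_right] at this
  have hcardC : ∀ (c : G) (k : ℕ), c ∈ C → orderOf c = p ^ (k + 1) → C ≤ Subgroup.zpowers c ⊔ A →
      Subgroup.zpowers c ⊓ A = Z → n = k + 3 := by
    intro c k hc hco hCle hinf
    have heq : Subgroup.zpowers c ⊔ A = C := le_antisymm (sup_le (Subgroup.zpowers_le.2 hc) hAC) hCle
    have h1 := CfsgLib.ZJ.card_sup_mul_card_inf_of_le_normalizer (A := Subgroup.zpowers c) (B := A)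
      (le_top.trans_eq (Subgroup.normalizer_eq_top A).symm)
    rw [heq, hinf, hZcard, ← hGC, hG, Nat.card_zpowers, hco, hA2, ← pow_add] at h1
    exact Nat.pow_right_injective hp.out.two_le h1
  have hcentral : ∀ c ∈ C, C ≤ Subgroup.zpowers c ⊔ A → ∀ e ∈ Subgroup.zpowers c, Commute x e →
      e ∈ Subgroup.center G := by
    intro c hc hCle e he hxe
    refine Subgroup.mem_center_iff.2 fun g => ?_
    obtain ⟨c₀, hc₀, i, rfl⟩ := hdec g
    have hle : Subgroup.zpowers c ⊔ A ≤ Subgroup.centralizer ({e} : Set G) := by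
      refine sup_le (fun w hw => Subgroup.mem_centralizer_singleton_iff.2 ?_)
        (fun w hw => Subgroup.mem_centralizer_singleton_iff.2 (hCA e ((Subgroup.zpowers_le.2 hc) he) w hw).eq)
      obtain ⟨u, rfl⟩ := Subgroup.mem_zpowers_iff.1 hw
      obtain ⟨v, rfl⟩ := Subgroup.mem_zpowers_iff.1 he
      exact ((Commute.refl c).zpow_zpow u v).eq
    exact ((show Commute c₀ e from Subgroup.mem_centralizer_singleton_iff.1 (hle (hCle hc₀))).mul_left
      (hxe.pow_left i)).eq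
  have hclose : ∀ (x' y z : G), Subgroup.zpowers x' = Subgroup.zpowers x → y ∈ A → y ∉ Z → Z ≤ Subgroup.zpowers z →
      C ≤ Subgroup.zpowers z ⊔ A → Subgroup.closure ({x', y, z} : Set G) = ⊤ := by
    intro x' y z hxx hy hyZ hZz hCz
    refine eq_top_iff.2 fun g _ => ?_
    set H := Subgroup.closure ({x', y, z} : Set G)
    have hzH : Subgroup.zpowers z ≤ H := Subgroup.zpowers_le.2 (Subgroup.subset_closure (by simp))
    have hAH : A ≤ H := (hAgen y hy hyZ).ge.trans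
      (sup_le (hZz.trans hzH) (Subgroup.zpowers_le.2 (Subgroup.subset_closure (by simp))))
    obtain ⟨c₀, hc₀, i, rfl⟩ := hdec g
    refine mul_mem ((hCz.trans (sup_le hzH hAH)) hc₀) (pow_mem ?_ i)
    exact (Subgroup.zpowers_le.2 (Subgroup.subset_closure (by simp)) : Subgroup.zpowers x' ≤ H)
      (hxx ▸ Subgroup.mem_zpowers x)
  have hxpow : ∀ k : ℕ, x ^ k ≠ 1 → (x ^ k) ^ p = 1 ∧ Subgroup.zpowers (x ^ k) = Subgroup.zpowers x := by
    intro k hk
    have h1 : (x ^ k) ^ p = 1 := by rw [← pow_mul, mul_comm, pow_mul, hxp, one_pow]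
    exact ⟨h1, Subgroup.eq_of_le_of_card_ge (Subgroup.zpowers_le.2 (pow_mem (Subgroup.mem_zpowers x) k))
      (by rw [Nat.card_zpowers, Nat.card_zpowers, hxo, orderOf_eq_prime h1 hk])⟩
  have hB : d ∈ Subgroup.center G → p = 3 → BCond p G := by
    intro hdz hp3
    refine ⟨E, hEc, hEp, d, hdz, fun a ha b hb => ?_⟩
    have hm2 : 2 ≤ m := by
      by_contra h2
      exact hspecial ⟨hp3, by omega⟩
    refine (hZz₀.symm.le.trans (Subgroup.zpowers_le.2 ?_)) (hEZ a ha b hb)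
    rw [hz₀, show m - 1 = m - 2 + 1 by omega, pow_succ', pow_mul]
    exact pow_mem (Subgroup.mem_zpowers _) _
  by_cases hall : ∀ c ∈ C, σ c ∈ Z
  · -- `C = D A`
    have hCle : C ≤ Subgroup.zpowers d ⊔ A := fun c hc => hsplit c hc (hall c hc)
    have hinf : Subgroup.zpowers d ⊓ A = Z := by
      refine le_antisymm (fun a ha => hDp a ?_ (hA.2 a ha.2)) (le_inf (fun w hw => hDd w (hZD hw)) hZA)
      exact (Subgroup.zpowers_le.2 hdD) ha.1
    obtain ⟨m', rfl⟩ : ∃ m', m = m' + 1 := ⟨m - 1, by omega⟩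
    have hn : n = m' + 3 := hcardC d m' hdC hm hCle hinf
    have hdz : d ∈ Subgroup.center G := hcentral d hdC hCle d (Subgroup.mem_zpowers d) hdx
    refine ⟨Or.inl ⟨hn3, ?_⟩, hB hdz⟩
    set w := a₁⁻¹ * (x⁻¹ * a₁ * x) with hw
    have hwZ : w ∈ Z := by
      have e : w = ⁅a₁⁻¹, x⁻¹⁆ := by simp only [hw, commutatorElement_def]; group
      rw [e]; exact hZc _ (inv_mem ha₁) _
    have hw1 : w ≠ 1 := fun e => by
      refine ha₁Z (hZfix a₁ ha₁ ?_)
      rw [hw, inv_mul_eq_one] at e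
      conv_lhs => rw [e]
      group
    have hk' : ∀ k : ℕ, (x ^ k)⁻¹ * a₁ * x ^ k = a₁ * w ^ k := by
      intro k
      induction k with
      | zero => simp
      | succ k ih =>
        calc (x ^ (k + 1))⁻¹ * a₁ * x ^ (k + 1) = x⁻¹ * ((x ^ k)⁻¹ * a₁ * x ^ k) * x := by rw [pow_succ]; group
          _ = x⁻¹ * a₁ * x * (x⁻¹ * w ^ k * x) := by rw [ih]; group
          _ = a₁ * w * w ^ k := by
            rw [show x⁻¹ * w ^ k * x = w ^ k by rw [((hZcomm w hwZ x⁻¹).pow_left k).symm.eq, inv_mul_cancel_right],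
              show x⁻¹ * a₁ * x = a₁ * w by rw [hw]; group]
          _ = _ := by rw [pow_succ', mul_assoc]
    obtain ⟨k, hk⟩ := exists_nat_pow_eq (g := w) (y := z₀) (by rw [hZgen w hwZ hw1]; exact hz₀Z)
    have hxk : x ^ k ≠ 1 := fun e => by
      have h := hk' k
      rw [e, inv_one, one_mul, mul_one, hk] at h
      exact hz₀1 (left_eq_mul.1 h)
    obtain ⟨h1, h2⟩ := hxpow k hxk
    have hz₀' : z₀ = d ^ p ^ m' := by rw [hz₀, Nat.add_sub_cancel]
    refine ⟨x ^ k, a₁, d, hclose _ _ _ h2 ha₁ ha₁Z (fun w hw => hDd w (hZD hw)) hCle, h1, hA.2 a₁ ha₁, ?_,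
      (hdx.pow_left k).eq, (hCA d hdC a₁ ha₁).eq, ?_⟩
    · rw [show n - 2 = m' + 1 by omega, ← hm, pow_orderOf_eq_one]
    · rw [hk' k, hk, hz₀', show n - 3 = m' by omega]
  · push Not at hall
    obtain ⟨c, hc, hcZ⟩ := hall
    have hcA : σ c ∈ A := hσ c hc
    have hcpD : c ^ p ∈ D := hDfix _ (pow_mem hc p) (by rw [hσpow c hc p, hA.2 _ hcA])
    obtain ⟨j, hj⟩ := Subgroup.mem_zpowers_iff.1 (hDd _ hcpD)
    have hjp : ¬ (p : ℤ) ∣ j := by
      rintro ⟨j', rfl⟩
      have he : ((d ^ j')⁻¹) ^ p = (c ^ p)⁻¹ := by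
        rw [inv_pow, ← hj, ← zpow_natCast, ← zpow_mul, mul_comm (p : ℤ) j']
      exact hcZ (hsolve c hc hcA (d ^ j')⁻¹ (inv_mem (zpow_mem hdD _))
        (by rw [he]; exact ((Commute.refl c).pow_right p).inv_right) (by rw [he, mul_inv_cancel]))
    have hdcp : d ∈ Subgroup.zpowers (c ^ p) := by
      obtain ⟨u, v, huv⟩ := (((Nat.prime_iff_prime_int.1 hp.out).coprime_iff_not_dvd.2 hjp).pow_left (m := m))
      refine ⟨v, ?_⟩
      show (c ^ p) ^ v = d
      conv_rhs => rw [← zpow_one d, ← huv, zpow_add, mul_comm u, zpow_mul, ← Nat.cast_pow, zpow_natCast, ← hm,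
        pow_orderOf_eq_one, one_zpow, one_mul]
      rw [← hj, ← zpow_mul, mul_comm]
    have hcpo : orderOf (c ^ p) = p ^ m := by
      rw [← hm]
      refine Nat.dvd_antisymm ?_ ?_
      · rw [← Nat.card_zpowers, ← Nat.card_zpowers]
        exact Subgroup.card_dvd_of_le (Subgroup.zpowers_le.2 (hDd _ hcpD))
      · rw [← Nat.card_zpowers, ← Nat.card_zpowers]
        exact Subgroup.card_dvd_of_le (Subgroup.zpowers_le.2 hdcp)
    have hco : orderOf c = p ^ (m + 1) := by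
      obtain ⟨k, hk⟩ := IsPGroup.iff_orderOf.1 hP c
      have hk0 : k ≠ 0 := fun e => by
        rw [e, pow_zero, orderOf_eq_one_iff] at hk
        rw [hk, one_pow, orderOf_one] at hcpo
        exact (Nat.one_lt_pow (by omega : m ≠ 0) hp1).ne hcpo
      rw [orderOf_pow, hk, Nat.gcd_eq_right (dvd_pow_self p hk0)] at hcpo
      rw [hk, pow_succ, ← hcpo, Nat.div_mul_cancel (dvd_pow_self p hk0)]
    have hdc : d ∈ Subgroup.zpowers c :=
      (Subgroup.zpowers_le.2 (pow_mem (Subgroup.mem_zpowers c) p) : _ ≤ Subgroup.zpowers c) hdcp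
    have hZc' : Z ≤ Subgroup.zpowers c := fun w hw => (Subgroup.zpowers_le.2 hdc) (hDd w (hZD hw))
    have hCle : C ≤ Subgroup.zpowers c ⊔ A := by
      intro c' hc'
      have h := hσ c' hc'
      rw [← hAgen (σ c) hcA hcZ] at h
      obtain ⟨ζ, hζ, y, hy, hζy⟩ := Subgroup.mem_sup_of_normal_left.1 h
      obtain ⟨i, rfl⟩ := exists_nat_pow_eq hy
      set e := c' * (c ^ i)⁻¹ with he
      have heC : e ∈ C := mul_mem hc' (inv_mem (pow_mem hc i))
      have h1 : σ e = ζ := by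
        have := hσmul e heC (c ^ i) (pow_mem hc i) (hσ e heC)
        rw [he, inv_mul_cancel_right, hσpow c hc i, ← hζy] at this
        exact (mul_right_cancel this).symm
      have h2 : e ∈ Subgroup.zpowers c ⊔ A :=
        (sup_le_sup_right (Subgroup.zpowers_le.2 hdc) A) (hsplit e heC (h1 ▸ hζ))
      have := mul_mem h2 (Subgroup.mem_sup_left (T := A) (pow_mem (Subgroup.mem_zpowers c) i))
      rwa [he, inv_mul_cancel_right] at this
    have hinf : Subgroup.zpowers c ⊓ A = Z := by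
      refine le_antisymm (fun a ha => ?_) (le_inf hZc' hZA)
      obtain ⟨i, hi⟩ := exists_nat_pow_eq ha.1
      have h := hA.2 a ha.2
      rw [← hi, ← pow_mul, ← orderOf_dvd_iff_pow_eq_one, hco, pow_succ] at h
      obtain ⟨i', hi'⟩ := (dvd_pow_self p (show m ≠ 0 by omega)).trans (Nat.dvd_of_mul_dvd_mul_right hp.out.pos h)
      refine hDp a ?_ (hA.2 a ha.2)
      rw [← hi, hi', pow_mul]
      exact pow_mem hcpD i'
    have hn : n = m + 3 := hcardC c m hc hco hCle hinf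
    have hdz : d ∈ Subgroup.center G := hcentral c hc hCle d hdc hdx
    refine ⟨Or.inr ⟨by omega, ?_⟩, hB hdz⟩
    set y := x⁻¹ * c * x * c⁻¹ with hy
    have hyA : y ∈ A := by
      have e : y = x⁻¹ * (c * σ c * c⁻¹)⁻¹ * x := by rw [← hσx, hy]; group
      rw [e]
      have := ‹A.Normal›.conj_mem _ (inv_mem (‹A.Normal›.conj_mem _ hcA c)) x⁻¹
      rwa [inv_inv] at this
    have hyZ : y ∉ Z := by
      intro h
      refine hcZ ?_
      have e : σ c = c⁻¹ * (x * y⁻¹ * x⁻¹) * c := by simp only [hσdef, hy]; group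
      rw [e]
      have := hZn.conj_mem _ (hZn.conj_mem _ (inv_mem h) x) c⁻¹
      rwa [inv_inv] at this
    set w := y⁻¹ * (x⁻¹ * y * x) with hw
    have hwZ : w ∈ Z := by
      have e : w = ⁅y⁻¹, x⁻¹⁆ := by simp only [hw, commutatorElement_def]; group
      rw [e]; exact hZc _ (inv_mem hyA) _
    have hw1 : w ≠ 1 := fun e => by
      refine hyZ (hZfix y hyA ?_)
      rw [hw, inv_mul_eq_one] at e
      conv_lhs => rw [e]
      group
    have hwfix : ∀ k : ℕ, x⁻¹ * w ^ k * x = w ^ k := fun k => by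
      rw [((hZcomm w hwZ x⁻¹).pow_left k).symm.eq, inv_mul_cancel_right]
    have hyw : Commute y w := (hZcomm w hwZ y).symm
    have hxy : x⁻¹ * y * x = y * w := by rw [hw]; group
    have hk' : ∀ k : ℕ, (x ^ k)⁻¹ * y * x ^ k = y * w ^ k ∧
        (x ^ k)⁻¹ * c * x ^ k = y ^ k * w ^ k.choose 2 * c := by
      intro k
      induction k with
      | zero => simp
      | succ k ih =>
        refine ⟨?_, ?_⟩
        · calc (x ^ (k + 1))⁻¹ * y * x ^ (k + 1) = x⁻¹ * ((x ^ k)⁻¹ * y * x ^ k) * x := by rw [pow_succ]; group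
            _ = x⁻¹ * y * x * (x⁻¹ * w ^ k * x) := by rw [ih.1]; group
            _ = _ := by rw [hwfix, hxy, pow_succ', mul_assoc]
        · calc (x ^ (k + 1))⁻¹ * c * x ^ (k + 1) = x⁻¹ * ((x ^ k)⁻¹ * c * x ^ k) * x := by rw [pow_succ]; group
            _ = (x⁻¹ * y ^ k * x⁻¹⁻¹) * (x⁻¹ * w ^ k.choose 2 * x) * (x⁻¹ * c * x) := by rw [ih.2]; group
            _ = (x⁻¹ * y * x) ^ k * w ^ k.choose 2 * (y * c) := by
              rw [← conj_pow, inv_inv, hwfix, show x⁻¹ * c * x = y * c by rw [hy]; group]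
            _ = y ^ k * (w ^ k * w ^ k.choose 2 * y) * c := by rw [hxy, hyw.mul_pow]; simp only [mul_assoc]
            _ = y ^ k * (y * (w ^ k * w ^ k.choose 2)) * c := by
              rw [((hyw.pow_right k).mul_right (hyw.pow_right _)).eq]
            _ = _ := by
              rw [← mul_assoc (y ^ k), ← pow_succ, ← pow_add, Nat.choose_succ_succ' k 1, Nat.choose_one_right]
    set z₁ := c ^ p ^ m with hz₁
    have hz₁o : orderOf z₁ = p := by
      rw [hz₁, orderOf_pow' _ (pow_ne_zero _ hp.out.ne_zero), hco, Nat.gcd_eq_right (pow_dvd_pow p (Nat.le_succ m)),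
        pow_succ, Nat.mul_div_cancel_left _ (pow_pos hp.out.pos m)]
    have hz₁p : z₁ ^ p = 1 := hz₁o ▸ pow_orderOf_eq_one z₁
    have hz₁Z : z₁ ∈ Z := hDp _ (by
      rw [hz₁, show m = m - 1 + 1 by omega, pow_succ', pow_mul]
      exact pow_mem hcpD _) hz₁p
    have hz₁1 : z₁ ≠ 1 := fun e => by rw [e, orderOf_one] at hz₁o; omega
    obtain ⟨s₀, hs₀⟩ := exists_nat_pow_eq (g := z₁) (y := w) (by rw [hZgen z₁ hz₁Z hz₁1]; exact hwZ)
    haveI : NeZero p := ⟨hp.out.ne_zero⟩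
    have hs0 : (s₀ : ZMod p) ≠ 0 := fun e => hw1 (by
      rw [← hs₀]
      exact orderOf_dvd_iff_pow_eq_one.1 (hz₁o.symm ▸ (ZMod.natCast_eq_zero_iff s₀ p).1 e))
    obtain ⟨s, k, hs, hsk⟩ : ∃ s k : ℕ, (s = 1 ∨ ¬ IsSquare (s : ZMod p)) ∧
        ((s₀ * (k * k) : ℕ) : ZMod p) = s ∧ (s : ZMod p) ≠ 0 := by
      by_cases hsq : IsSquare (s₀ : ZMod p)
      · obtain ⟨r, hr⟩ := hsq
        refine ⟨1, (r⁻¹).val, Or.inl rfl, ?_, by simp⟩
        have hr0 : r ≠ 0 := fun e => hs0 (by rw [hr, e, mul_zero])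
        rw [Nat.cast_mul, Nat.cast_mul, ZMod.natCast_zmod_val, hr, Nat.cast_one]
        field_simp
      · exact ⟨s₀, 1, Or.inr hsq, by simp, hs0⟩
    have hwk : w ^ (k * k) = z₁ ^ s := by
      rw [← hs₀, ← pow_mul]
      exact pow_eq_pow_iff_modEq.2 (hz₁o.symm ▸ (ZMod.natCast_eq_natCast_iff _ _ _).1 hsk.1)
    have hz₁s : z₁ ^ s ≠ 1 := fun e => hsk.2 ((ZMod.natCast_eq_zero_iff s p).2 (hz₁o ▸ orderOf_dvd_of_pow_eq_one e))
    set y' := y ^ k * w ^ k.choose 2 with hy'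
    have hy'A : y' ∈ A := mul_mem (pow_mem hyA k) (hZA (pow_mem hwZ _))
    have hrel : (x ^ k)⁻¹ * y' * x ^ k = y' * z₁ ^ s := by
      calc (x ^ k)⁻¹ * y' * x ^ k
          = ((x ^ k)⁻¹ * y ^ k * (x ^ k)⁻¹⁻¹) * ((x ^ k)⁻¹ * w ^ k.choose 2 * x ^ k) := by rw [hy']; group
        _ = (y * w ^ k) ^ k * w ^ k.choose 2 := by
          rw [← conj_pow, inv_inv, (hk' k).1, ((hZcomm w hwZ (x ^ k)⁻¹).pow_left _).symm.eq, inv_mul_cancel_right]
        _ = y ^ k * (w ^ k) ^ k * w ^ k.choose 2 := by rw [(hyw.pow_right k).mul_pow]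
        _ = y' * z₁ ^ s := by
          rw [← hwk, ← pow_mul, hy', mul_assoc, mul_assoc, ← pow_add, ← pow_add, add_comm]
    have hy'Z : y' ∉ Z := fun h => hz₁s (by
      rw [((hZcomm y' h (x ^ k)⁻¹)).symm.eq, inv_mul_cancel_right] at hrel
      exact left_eq_mul.1 hrel)
    have hxk : x ^ k ≠ 1 := fun e => hz₁s (by
      rw [e, inv_one, one_mul, mul_one] at hrel
      exact left_eq_mul.1 hrel)
    obtain ⟨h1, h2⟩ := hxpow k hxk
    refine ⟨s, x ^ k, y', c, hs, hclose _ _ _ h2 hy'A hy'Z hZc' hCle, h1, hA.2 _ hy'A, ?_, (hCA c hc _ hy'A).eq,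
      ?_, (hk' k).2⟩
    · rw [show n - 2 = m + 1 by omega, ← hco, pow_orderOf_eq_one]
    · rw [hrel, show n - 3 = m by omega, mul_comm s, pow_mul]

end CfsgLib.Blackburn
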