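import Cfsg.Agent.Blackburn.CaseTwo
import Cfsg.Agent.PLocalBasics.MaximalClass
import Cfsg.Agent.MaxPearl.Chain

/-!
`3`-groups of rank at most two.
-/

set_option autoImplicit false
set_option linter.style.haveILetI false
set_option maxHeartbeats 800000

namespace CfsgLib.Blackburn

open scoped commutatorElement
open CfsgLib.PLocalBasics

universe u

variable {G : Type u} [Group G] [Finite G]

theorem no_big {A : Subgroup G} (hall : ∀ x : G, x ^ 3 = 1 → x ∈ A) (hA2 : Nat.card A = 3 ^ 2)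
    (T : Subgroup G) (hTcen : T ≤ Subgroup.center G) (hTc : Nat.card T = 3) (W : Subgroup G) (hW : Nat.card W = 3 ^ 4)
    (hcube : ∀ a ∈ W, a ^ 3 ∈ T) (hcomm : ∀ a ∈ W, ∀ b ∈ W, ⁅a, b⁆ ∈ Subgroup.center G) : False := by
  have hpow : ∀ a ∈ W, ∀ b ∈ W, ⁅b, a⁆ ^ 3 = 1 := by
    intro a ha b hb
    rw [← comm_pow_left_central (hcomm b hb a ha), commutatorElement_eq_one_iff_mul_comm]
    exact (Subgroup.mem_center_iff.1 (hTcen (hcube b hb)) a).symm
  let φ : W →* T := MonoidHom.mk' (fun a => ⟨(a : G) ^ 3, hcube a a.2⟩) fun a b => Subtype.ext (by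
    show ((a : G) * b) ^ 3 = (a : G) ^ 3 * (b : G) ^ 3
    rw [CfsgLib.PGroup.mul_pow_central (hcomm b b.2 a a.2), show Nat.choose 3 2 = 3 from rfl, hpow a a.2 b b.2, mul_one])
  have hk : Nat.card φ.ker ≤ 3 ^ 2 := by
    rw [← hA2, ← Subgroup.card_map_of_injective W.subtype_injective]
    refine Subgroup.card_le_of_le ?_
    rintro _ ⟨x, hx, rfl⟩
    exact hall _ (congrArg Subtype.val (MonoidHom.mem_ker.1 hx))
  have h2 := Subgroup.card_mul_index φ.ker
  rw [Subgroup.index_ker, hW] at h2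
  have h3 : Nat.card φ.range ≤ 3 := (Subgroup.card_le_card_group _).trans_eq hTc
  have := Nat.mul_le_mul hk h3
  rw [h2] at this
  norm_num at this

theorem preimage_of_exponent {T : Subgroup G} [T.Normal] (hTc : Nat.card T = 3) {E : Subgroup (G ⧸ T)}
    (hE : Nat.card E = 3 ^ 3) (hexp : ∀ e ∈ E, e ^ 3 = 1) :
    Nat.card ↥(E.comap (QuotientGroup.mk' T)) = 3 ^ 4 ∧ ∀ a ∈ E.comap (QuotientGroup.mk' T), a ^ 3 ∈ T := by
  constructor
  · set π := QuotientGroup.mk' T
    have hTU : T ≤ E.comap π := fun t ht => by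
      show π t ∈ E
      rw [show π t = 1 from (QuotientGroup.eq_one_iff t).2 ht]; exact one_mem _
    rw [← CfsgLib.Offender.card_mul_relIndex_of_le hTU, hTc,
      show T.relIndex (E.comap π) = π.ker.relIndex (E.comap π) by rw [QuotientGroup.ker_mk'],
      Subgroup.relIndex_ker, Subgroup.map_comap_eq_self_of_surjective (QuotientGroup.mk'_surjective T), hE]
    norm_num
  · intro a ha
    refine (QuotientGroup.eq_one_iff _).1 ?_
    show QuotientGroup.mk' T (a ^ 3) = 1
    rw [map_pow]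
    exact hexp _ ha

omit [Finite G] in
theorem commutator_le_of_gen {N : Subgroup G} [N.Normal] {a b : G} (hgen : Subgroup.closure ({a, b} : Set G) = ⊤)
    (hc : ⁅a, b⁆ ∈ N) : commutator G ≤ N := by
  set π := QuotientGroup.mk' N
  have hab : π a * π b = π b * π a := by
    rw [← commutatorElement_eq_one_iff_mul_comm, ← map_commutatorElement]
    exact (QuotientGroup.eq_one_iff _).2 hc
  have hcm : ∀ s ∈ ({π a, π b} : Set (G ⧸ N)), ∀ t ∈ ({π a, π b} : Set (G ⧸ N)), s * t = t * s := by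
    rintro s (rfl | rfl) t (rfl | rfl)
    exacts [rfl, hab, hab.symm, rfl]
  haveI := Subgroup.isMulCommutative_closure hcm
  have htop : ∀ g : G, π g ∈ Subgroup.closure ({π a, π b} : Set (G ⧸ N)) := fun g => by
    rw [← Set.image_pair π a b, ← MonoidHom.map_closure, hgen]
    exact Subgroup.mem_map_of_mem π (Subgroup.mem_top g)
  refine Subgroup.commutator_le.2 fun r _ s _ => (QuotientGroup.eq_one_iff _).1 ?_
  show π ⁅r, s⁆ = 1
  rw [map_commutatorElement, commutatorElement_eq_one_iff_mul_comm]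
  exact setLike_mul_comm (htop r) (htop s)

theorem order_five_step {A L₂ D : Subgroup G} [L₂.Normal] (hall : ∀ x : G, x ^ 3 = 1 → x ∈ A)
    (hL₂A : L₂ = A) (hA : ∀ x ∈ A, x ^ 3 = 1) (hL₂ : L₂ ≤ Subgroup.center G)
    (hD : Nat.card D = Nat.card L₂ * 3) (hLD : L₂ ≤ D) (hDL : ∀ u ∈ D, ∀ g : G, ⁅u, g⁆ ∈ L₂)
    {a b : G} (ha3 : a ^ 3 ∈ D) (hcD : ⁅a, b⁆ ∈ D) (hcL : ⁅a, b⁆ ∉ L₂) (hca : ⁅⁅a, b⁆, a⁆ ≠ 1) : False := by
  haveI : Fact (Nat.Prime 3) := ⟨Nat.prime_three⟩
  set c := ⁅a, b⁆ with hc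
  obtain ⟨h1, h2⟩ := pow_mem_of_card_step (p := 3) hLD hD
  rw [← h2 c hcD hcL] at ha3
  obtain ⟨l, hl, y, hy, hly⟩ := Subgroup.mem_sup_of_normal_left.1 ha3
  obtain ⟨i, rfl⟩ := exists_nat_pow_eq hy
  have hf : ⁅c, a⁆ ∈ L₂ := hDL c hcD a
  have hf3 : orderOf ⁅c, a⁆ = 3 := orderOf_eq_prime (hA _ (hL₂A ▸ hf)) hca
  have hi : 3 ∣ i := by
    rw [← hf3, orderOf_dvd_iff_pow_eq_one, ← comm_pow_left_central (hL₂ hf), ← comm_mul_left_of_center (hL₂ hl), hly,
      commutatorElement_eq_one_iff_mul_comm]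
    exact ((Commute.refl a).pow_left 3).eq
  obtain ⟨i', rfl⟩ := hi
  have ha3' : a ^ 3 ∈ L₂ := hly ▸ mul_mem hl (by rw [pow_mul]; exact pow_mem (h1 c hcD) i')
  have he : ⁅a, c⁆ ∈ L₂ := by
    have := inv_mem hf; rwa [commutatorElement_inv] at this
  set e := ⁅a, c⁆ with hedef
  have hec : ∀ g : G, Commute e g := fun g => (Subgroup.mem_center_iff.1 (hL₂ he) g).symm
  have hac : a * c * a⁻¹ = e * c := by rw [hedef, commutatorElement_def]; group
  have hc3 : c ^ 3 = 1 := by
    have h := commutatorElement_eq_one_iff_mul_comm.2 (Subgroup.mem_center_iff.1 (hL₂ ha3') b).symm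
    calc c ^ 3 = e ^ 3 * c ^ 3 := by rw [hA e (hL₂A.le he), one_mul]
      _ = e * e * c * (e * c) * c := by
          have : Commute c e := (hec c).symm
          simp only [pow_succ, pow_zero, one_mul]
          simp only [mul_assoc]
          rw [← mul_assoc c e, this.eq, mul_assoc e c]
      _ = a * (a * c * a⁻¹) * a⁻¹ * (a * c * a⁻¹) * c := by
          rw [hac, show a * (e * c) * a⁻¹ = e * (a * c * a⁻¹) by rw [← mul_assoc a e, ← (hec a).eq]; group, hac]
          simp only [mul_assoc]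
      _ = ⁅a ^ 3, b⁆ := by rw [hc]; simp only [commutatorElement_def, pow_succ, pow_zero, one_mul]; group
      _ = 1 := h
  exact hcL (hL₂A ▸ hall c hc3)

/-- The largest-class quotient cannot occur when all elements of order three lie in `A`. -/
theorem no_max_quotient {n : ℕ} (hG : Nat.card G = 3 ^ n) (hn : 4 ≤ n) {A : Subgroup G}
    (hall : ∀ x : G, x ^ 3 = 1 → x ∈ A) (hA : ∀ x ∈ A, x ^ 3 = 1) (hA2 : Nat.card A = 3 ^ 2)
    (hbot : (⊤ : Subgroup G).lowerCentralSeries (n - 2) = ⊥)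
    (hL : 3 ^ 2 ≤ Nat.card ↥((⊤ : Subgroup G).lowerCentralSeries (n - 3)))
    (hd : ¬ Nat.card ↥(commutator G) ≤ 3) : False := by
  classical
  haveI : Fact (Nat.Prime 3) := ⟨Nat.prime_three⟩
  have hP : IsPGroup 3 G := IsPGroup.of_card hG
  haveI := hP.isNilpotent
  set L := fun j => (⊤ : Subgroup G).lowerCentralSeries j with hLdef
  have hanti : ∀ i j, i ≤ j → L j ≤ L i := fun i j h => Subgroup.lowerCentralSeries_antitone (S := ⊤) h
  have hne : ∀ j, j ≤ n - 3 → L j ≠ ⊥ := fun j hj e => by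
    have h : L (n - 3) = ⊥ := le_bot_iff.1 (e ▸ hanti j (n - 3) hj)
    rw [show (⊤ : Subgroup G).lowerCentralSeries (n - 3) = ⊥ from h, Subgroup.card_bot] at hL
    omega
  have hlow : ∀ k, k + 1 ≤ n - 3 → 3 ^ (2 + k) ≤ Nat.card (L (n - 3 - k)) := by
    intro k
    induction k with
    | zero => intro _; exact hL
    | succ k ih =>
      intro hk
      have h := Cfsg.Agent.S4143.card_mul_le_of_lt hP
        (show L (n - 3 - k) ≤ L (n - 3 - (k + 1)) from hanti _ _ (by omega))
        (fun e => by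
          have h' := CfsgLib.PGroupSmall.lcs_succ_ne (hne (n - 3 - (k + 1)) (by omega))
          rw [show n - 3 - (k + 1) + 1 = n - 3 - k by omega] at h'
          exact h' e)
      refine le_trans ?_ h
      rw [← add_assoc, pow_succ]
      exact Nat.mul_le_mul_right _ (ih (by omega))
  have hcard : ∀ j, 1 ≤ j → j ≤ n - 3 → Nat.card (L j) = 3 ^ (n - 1 - j) := by
    intro j h1 h2
    refine le_antisymm ?_ ?_
    · have h := card_lcs_mul_le hG j h1 (hne j h2)
      refine Nat.le_of_mul_le_mul_right ?_ (pow_pos (by norm_num : 0 < 3) (j + 1))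
      refine h.trans_eq ?_
      rw [← pow_add]; congr 1; omega
    · have h := hlow (n - 3 - j) (by omega)
      rwa [show n - 3 - (n - 3 - j) = j by omega, show 2 + (n - 3 - j) = n - 1 - j by omega] at h
  have hstep : ∀ j, ∀ u ∈ L j, ∀ g : G, ⁅u, g⁆ ∈ L (j + 1) := fun j u hu g => by
    show ⁅u, g⁆ ∈ (⊤ : Subgroup G).lowerCentralSeries (j + 1)
    rw [Subgroup.lowerCentralSeries_succ]
    exact Subgroup.commutator_mem_commutator hu (Subgroup.mem_top g)
  have hLcen : L (n - 3) ≤ Subgroup.center G := fun u hu => Subgroup.mem_center_iff.2 fun g => by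
    have h := hstep (n - 3) u hu g
    rw [show L (n - 3 + 1) = ⊥ by rw [show n - 3 + 1 = n - 2 by omega]; exact hbot, Subgroup.mem_bot,
      commutatorElement_eq_one_iff_mul_comm] at h
    exact h.symm
  have hD1 : L 1 = commutator G := Subgroup.top_lowerCentralSeries_one
  -- two generators
  set D := L 1 with hDdef
  haveI : D.Normal := lcs_normal 1
  have hDc : Nat.card D = 3 ^ (n - 2) := by
    rw [hcard 1 le_rfl (by omega)]; congr 1
  have hexp : ∀ g : G, g ^ 3 ∈ D := by
    intro g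
    refine (QuotientGroup.eq_one_iff _).1 ?_
    show QuotientGroup.mk' D (g ^ 3) = 1
    have hQ : Nat.card (G ⧸ D) = 3 ^ 2 := by
      have h1 := Subgroup.card_eq_card_quotient_mul_card_subgroup D
      rw [hDc, hG] at h1
      refine (Nat.eq_of_mul_eq_mul_right (pow_pos (by norm_num : 0 < 3) (n - 2)) ?_).symm
      rw [← h1, ← pow_add]; congr 1; omega
    set q := QuotientGroup.mk' D g with hq
    have hdq : orderOf q ∣ 3 ^ 2 := hQ ▸ orderOf_dvd_natCard q
    obtain ⟨i, hi, ho⟩ := (Nat.dvd_prime_pow Nat.prime_three).1 hdq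
    rw [map_pow, ← hq]
    rcases Nat.lt_or_ge i 2 with h | h
    · exact orderOf_dvd_iff_pow_eq_one.1 (ho ▸ (pow_dvd_pow 3 (by omega : i ≤ 1)).trans (pow_one 3).dvd)
    · exact (not_isCyclic_quotient hP (hne 1 (by omega))
        (isCyclic_of_orderOf_eq_card q (by rw [ho, hQ, le_antisymm hi h]))).elim
  have hlt : Nat.card D < Nat.card G := by
    rw [hDc, hG]; exact Nat.pow_lt_pow_right (by norm_num) (by omega)
  obtain ⟨a, -, haD⟩ := SetLike.exists_of_lt (lt_top_iff_ne_top.2 (fun e : D = ⊤ => by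
    rw [e, Subgroup.card_top] at hlt; exact lt_irrefl _ hlt) : D < ⊤)
  haveI hMn : (D ⊔ Subgroup.zpowers a).Normal := normal_sup_of_commutator_mem inferInstance fun g => by
    rw [hD1]; exact Subgroup.commutator_mem_commutator (Subgroup.mem_top a) (Subgroup.mem_top g)
  have hMc : Nat.card ↥(D ⊔ Subgroup.zpowers a) = 3 ^ (n - 1) := by
    rw [card_sup_zpowers (p := 3) haD (hexp a), hDc, ← pow_succ]; congr 1; omega
  obtain ⟨b, -, hbM⟩ := SetLike.exists_of_lt (lt_top_iff_ne_top.2 (fun e : D ⊔ Subgroup.zpowers a = ⊤ => by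
    rw [e, Subgroup.card_top, hG] at hMc
    have := Nat.pow_right_injective (le_refl 2 |>.trans (by norm_num)) hMc
    omega) : D ⊔ Subgroup.zpowers a < ⊤)
  have hgen : Subgroup.closure ({a, b} : Set G) = ⊤ := by
    refine frattini_nongenerating ?_
    have htop : (D ⊔ Subgroup.zpowers a) ⊔ Subgroup.zpowers b = ⊤ := Subgroup.eq_top_of_card_eq _ (by
      rw [card_sup_zpowers (p := 3) hbM (Subgroup.mem_sup_left (hexp b)), hMc, hG, ← pow_succ]; congr 1; omega)
    refine eq_top_iff.2 (htop.ge.trans (sup_le (sup_le ?_ ?_) ?_))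
    · exact (hD1.le.trans (CfsgLib.PGroup.commutator_le_frattini hP)).trans le_sup_right
    · exact le_trans (Subgroup.zpowers_le.2 (Subgroup.subset_closure (by simp))) le_sup_left
    · exact le_trans (Subgroup.zpowers_le.2 (Subgroup.subset_closure (by simp))) le_sup_left
  rcases Nat.lt_or_ge n 5 with hn5 | hn5
  · -- order `3⁴`
    obtain rfl : n = 4 := by omega
    set c := ⁅a, b⁆ with hc
    have hcD : c ∈ D := by rw [hD1]; exact Subgroup.commutator_mem_commutator (Subgroup.mem_top a) (Subgroup.mem_top b)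
    have hccen : c ∈ Subgroup.center G := hLcen hcD
    have hc3 : c ^ 3 = 1 := by
      rw [hc, ← comm_pow_left_central hccen, commutatorElement_eq_one_iff_mul_comm]
      exact (Subgroup.mem_center_iff.1 (hLcen (hexp a)) b).symm
    haveI : (Subgroup.zpowers c).Normal := ⟨fun z hz g => by
      obtain ⟨i, rfl⟩ := Subgroup.mem_zpowers_iff.1 hz
      rw [Subgroup.mem_center_iff.1 (zpow_mem hccen i) g, mul_inv_cancel_right]
      exact Subgroup.zpow_mem_zpowers c i⟩
    refine hd ((Subgroup.card_le_of_le (commutator_le_of_gen hgen (Subgroup.mem_zpowers c))).trans ?_)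
    rw [Nat.card_zpowers]
    exact Nat.le_of_dvd (by norm_num) (orderOf_dvd_of_pow_eq_one hc3)
  -- the last term is `A`
  set K := L (n - 3) with hKdef
  have hKc : Nat.card K = 3 ^ 2 := by
    rw [hKdef, hcard (n - 3) (by omega) le_rfl]; congr 1; omega
  set V := L (n - 4) with hVdef
  have hVc : Nat.card V = 3 ^ 3 := by
    rw [hVdef, hcard (n - 4) (by omega) (by omega)]; congr 1; omega
  have hKV : K ≤ V := hanti _ _ (by omega)
  haveI : K.Normal := lcs_normal _
  haveI : V.Normal := lcs_normal _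
  have hVG : ∀ u ∈ V, ∀ g : G, ⁅u, g⁆ ∈ K := fun u hu g => by
    have := hstep (n - 4) u hu g
    rwa [show n - 4 + 1 = n - 3 by omega] at this
  obtain ⟨hV3, hVgen⟩ := pow_mem_of_card_step (p := 3) hKV (by rw [hVc, hKc]; norm_num)
  have hKA : K = A := by
    refine Subgroup.eq_of_le_of_card_ge ?_ (by rw [hA2, hKc])
    have hKexp : K ≤ A := by
      show (⊤ : Subgroup G).lowerCentralSeries (n - 3) ≤ A
      rw [show n - 3 = n - 4 + 1 by omega, Subgroup.lowerCentralSeries_succ, Subgroup.commutator_le]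
      intro v hv g _
      refine hall _ ?_
      rw [← comm_pow_left_central (hLcen (hVG v hv g)), commutatorElement_eq_one_iff_mul_comm]
      exact (Subgroup.mem_center_iff.1 (hLcen (hV3 v hv)) g).symm
    exact hKexp
  rcases Nat.lt_or_ge n 6 with hn6 | hn6
  · -- order `3⁵`
    obtain rfl : n = 5 := by omega
    have hcL : ⁅a, b⁆ ∉ K := fun h => by
      have hle : D ≤ K := hD1.le.trans (commutator_le_of_gen hgen h)
      have := Subgroup.card_le_of_le hle
      rw [hKc, hDc] at this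
      norm_num at this
    have hcD : ⁅a, b⁆ ∈ D := by
      rw [hD1]; exact Subgroup.commutator_mem_commutator (Subgroup.mem_top a) (Subgroup.mem_top b)
    by_cases hca : ⁅⁅a, b⁆, a⁆ = 1
    · refine order_five_step (a := b) (b := a) hall hKA hA hLcen (by rw [hVc, hKc]; norm_num) hKV hVG (hexp b)
        (by rw [← commutatorElement_inv]; exact inv_mem hcD) (fun h => hcL (by rw [← commutatorElement_inv]; exact inv_mem h)) ?_
      intro hcb
      have hcomm : Commute ⁅b, a⁆ b := commutatorElement_eq_one_iff_mul_comm.1 hcb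
      have hcomm' : Commute ⁅a, b⁆ b := by rw [← commutatorElement_inv]; exact hcomm.inv_left
      have hccen : ⁅a, b⁆ ∈ Subgroup.center G := by
        have hle : (⊤ : Subgroup G) ≤ Subgroup.centralizer ({⁅a, b⁆} : Set G) := hgen.ge.trans
          ((Subgroup.closure_le _).2 (by
            rintro g (rfl | rfl)
            · exact Subgroup.mem_centralizer_singleton_iff.2 (commutatorElement_eq_one_iff_mul_comm.1 hca).symm
            · exact Subgroup.mem_centralizer_singleton_iff.2 hcomm'.eq.symm))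
        exact Subgroup.mem_center_iff.2 fun g => Subgroup.mem_centralizer_singleton_iff.1 (hle (Subgroup.mem_top g))
      have hVcen : V ≤ Subgroup.center G := (hVgen _ hcD hcL).ge.trans (sup_le hLcen (Subgroup.zpowers_le.2 hccen))
      refine hne 2 (by omega) (eq_bot_iff.2 ?_)
      show (⊤ : Subgroup G).lowerCentralSeries (1 + 1) ≤ ⊥
      rw [Subgroup.lowerCentralSeries_succ, Subgroup.commutator_le]
      intro v hv g _
      rw [Subgroup.mem_bot, commutatorElement_eq_one_iff_mul_comm]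
      exact (Subgroup.mem_center_iff.1 (hVcen hv) g).symm
    · exact order_five_step hall hKA hA hLcen (by rw [hVc, hKc]; norm_num) hKV hVG (hexp a) hcD hcL hca
  -- the general case
  set U := L (n - 5) with hUdef
  have hUc : Nat.card U = 3 ^ 4 := by
    rw [hUdef, hcard (n - 5) (by omega) (by omega)]; congr 1; omega
  have hVU : V ≤ U := hanti _ _ (by omega)
  have hUV : ∀ x ∈ U, ∀ y ∈ V, Commute x y := fun x hx y hy => by
    have h := CfsgLib.MaxPearl.commutator_lcs_lcs (G := G) (n - 4) (n - 5) (Subgroup.commutator_mem_commutator hx hy)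
    have h' : ⁅x, y⁆ ∈ L (n - 2) := hanti (n - 2) _ (by omega) h
    rw [show L (n - 2) = ⊥ from hbot, Subgroup.mem_bot, commutatorElement_eq_one_iff_mul_comm] at h'
    exact h'
  have hUG : ∀ x ∈ U, ∀ g : G, ⁅x, g⁆ ∈ V := fun x hx g => by
    have := hstep (n - 5) x hx g
    rwa [show n - 5 + 1 = n - 4 by omega] at this
  obtain ⟨hU3, hUgen⟩ := pow_mem_of_card_step (p := 3) hVU (by rw [hUc, hVc]; norm_num)
  obtain ⟨u, hu, huV⟩ := SetLike.exists_of_lt (lt_of_le_of_ne hVU (fun e => by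
    rw [e, hUc] at hVc; norm_num at hVc) : V < U)
  have hUdec : ∀ x ∈ U, ∃ l ∈ V, ∃ i : ℕ, x = l * u ^ i := fun x hx => by
    rw [← hUgen u hu huV] at hx
    obtain ⟨l, hl, y, hy, rfl⟩ := Subgroup.mem_sup_of_normal_left.1 hx
    obtain ⟨i, rfl⟩ := exists_nat_pow_eq hy
    exact ⟨l, hl, i, rfl⟩
  -- `g ↦ [u, g]` modulo `K`
  set π := QuotientGroup.mk' K
  have hmul : ∀ g h : G, π ⁅u, g * h⁆ = π ⁅u, g⁆ * π ⁅u, h⁆ := fun g h => by
    have hz' : π g * π ⁅u, h⁆ * (π g)⁻¹ = π ⁅u, h⁆ := by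
      rw [mul_inv_eq_iff_eq_mul]
      refine (commutatorElement_eq_one_iff_mul_comm.1 ?_).symm
      rw [← map_commutatorElement]
      exact (QuotientGroup.eq_one_iff _).2 (hVG _ (hUG u hu h) g)
    rw [show ⁅u, g * h⁆ = ⁅u, g⁆ * (g * ⁅u, h⁆ * g⁻¹) by simp only [commutatorElement_def]; group, map_mul, map_mul,
      map_mul, map_inv, hz']
  let ψ : G →* G ⧸ K := MonoidHom.mk' (fun g => π ⁅u, g⁆) hmul
  obtain ⟨s, hs, hsD⟩ : ∃ s ∈ ψ.ker, s ∉ D := by
    by_contra hh
    push Not at hh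
    have h1 : Nat.card ψ.range ≤ 3 := by
      have hle : ψ.range ≤ V.map π := by
        rintro _ ⟨g, rfl⟩; exact Subgroup.mem_map_of_mem π (hUG u hu g)
      refine (Subgroup.card_le_of_le hle).trans_eq ?_
      refine Nat.eq_of_mul_eq_mul_left (Nat.card_pos (α := K)) ?_
      rw [← Subgroup.relIndex_ker, QuotientGroup.ker_mk', CfsgLib.Offender.card_mul_relIndex_of_le hKV, hVc, hKc]
      norm_num
    have h2 := Nat.mul_le_mul (Subgroup.card_le_of_le (show ψ.ker ≤ D from hh)) h1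
    rw [← Subgroup.index_ker, Subgroup.card_mul_index, hG, hDc, ← pow_succ,
      Nat.pow_le_pow_iff_right (by norm_num)] at h2
    omega
  have hus : ⁅u, s⁆ ∈ K := (QuotientGroup.eq_one_iff _).1 (MonoidHom.mem_ker.1 hs)
  obtain ⟨g₀, hw⟩ : ∃ g, ⁅u, g⁆ ∉ K := by
    by_contra hh
    push Not at hh
    have hle : V ≤ K := by
      show (⊤ : Subgroup G).lowerCentralSeries (n - 4) ≤ K
      rw [show n - 4 = n - 5 + 1 by omega, Subgroup.lowerCentralSeries_succ, Subgroup.commutator_le]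
      intro x hx g _
      obtain ⟨l, hl, i, rfl⟩ := hUdec x hx
      have hKu : ∀ j : ℕ, ⁅u ^ j, g⁆ ∈ K := fun j => by
        rw [comm_pow_left_of_commute (hUV u hu _ (hUG u hu g))]; exact pow_mem (hh g) j
      rw [show ⁅l * u ^ i, g⁆ = l * ⁅u ^ i, g⁆ * l⁻¹ * ⁅l, g⁆ by simp only [commutatorElement_def]; group]
      exact mul_mem (Subgroup.Normal.conj_mem inferInstance _ (hKu i) l) (hVG l hl g)
    have := Subgroup.card_le_of_le hle
    rw [hVc, hKc] at this
    norm_num at this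
  set w := ⁅u, g₀⁆ with hwdef
  have hwV : w ∈ V := hUG u hu g₀
  have hVw : V = K ⊔ Subgroup.zpowers w := (hVgen w hwV hw).symm
  have hwG : ∀ g, ⁅w, g⁆ ∈ Subgroup.center G := fun g => hLcen (hVG w hwV g)
  let χ : G →* G := MonoidHom.mk' (fun g => ⁅w, g⁆) fun g h => by
    show ⁅w, g * h⁆ = ⁅w, g⁆ * ⁅w, h⁆
    exact CfsgLib.PGroup.commutator_mul_right_central (hwG h)
  have hws : ⁅w, s⁆ ≠ 1 := by
    intro h
    refine hsD ?_
    have hDker : D ≤ χ.ker := fun g hg => by
      have h1 := CfsgLib.MaxPearl.commutator_lcs_lcs (G := G) 1 (n - 4) (Subgroup.commutator_mem_commutator hwV hg)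
      have h2 : ⁅w, g⁆ ∈ L (n - 2) := hanti (n - 2) _ (by omega) h1
      rw [show L (n - 2) = ⊥ from hbot, Subgroup.mem_bot] at h2
      exact MonoidHom.mem_ker.2 h2
    have hKr : K ≤ χ.range := by
      show (⊤ : Subgroup G).lowerCentralSeries (n - 3) ≤ χ.range
      rw [show n - 3 = n - 4 + 1 by omega, Subgroup.lowerCentralSeries_succ, Subgroup.commutator_le]
      intro v hv g _
      rw [show (⊤ : Subgroup G).lowerCentralSeries (n - 4) = V from rfl, hVw] at hv
      obtain ⟨l, hl, y, hy, rfl⟩ := Subgroup.mem_sup_of_normal_left.1 hv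
      obtain ⟨i, rfl⟩ := exists_nat_pow_eq hy
      rw [comm_mul_left_of_center (hLcen hl), comm_pow_left_central (hwG g)]
      exact pow_mem (show ⁅w, g⁆ ∈ χ.range from ⟨g, rfl⟩) i
    have hker : D = χ.ker := by
      refine Subgroup.eq_of_le_of_card_ge hDker ?_
      refine Nat.le_of_mul_le_mul_right ?_ (pow_pos (by norm_num : 0 < 3) 2)
      calc Nat.card χ.ker * 3 ^ 2 ≤ Nat.card χ.ker * χ.ker.index := by
            rw [Subgroup.index_ker, ← hKc]; exact Nat.mul_le_mul_left _ (Subgroup.card_le_of_le hKr)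
        _ = Nat.card D * 3 ^ 2 := by
            rw [Subgroup.card_mul_index, hG, hDc, ← pow_add]; congr 1; omega
    rw [hker]; exact MonoidHom.mem_ker.2 h
  have hu3 : u ^ 3 ∈ V := hU3 u hu
  rw [hVw] at hu3
  obtain ⟨l, hl, y, hy, hly⟩ := Subgroup.mem_sup_of_normal_left.1 hu3
  obtain ⟨i, rfl⟩ := exists_nat_pow_eq hy
  have hi : 3 ∣ i := by
    rw [← orderOf_eq_prime (hA _ (hKA ▸ hVG w hwV s)) hws, orderOf_dvd_iff_pow_eq_one,
      ← comm_pow_left_central (hwG s), ← comm_mul_left_of_center (hLcen hl), hly, comm_pow_left_central (hLcen hus)]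
    exact hA _ (hKA ▸ hus)
  obtain ⟨i', rfl⟩ := hi
  have hu3K : u ^ 3 ∈ K := hly ▸ mul_mem hl (by rw [pow_mul]; exact pow_mem (hV3 w hwV) i')
  refine hw (hKA ▸ hall w ?_)
  rw [← comm_pow_left_of_commute (hUV u hu w hwV), commutatorElement_eq_one_iff_mul_comm]
  exact (Subgroup.mem_center_iff.1 (hLcen hu3K) g₀).symm

theorem rank_quotient {A : Subgroup G} (hall : ∀ x : G, x ^ 3 = 1 → x ∈ A) (hA2 : Nat.card A = 3 ^ 2)
    (T : Subgroup G) [T.Normal] (hTcen : T ≤ Subgroup.center G) (hTc : Nat.card T = 3) (hG : IsPGroup 3 G) :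
    ∀ E : Subgroup (G ⧸ T), Cfsg.IsElementaryAbelian 3 E → Nat.card E ≤ 3 ^ 2 := by
  haveI : Fact (Nat.Prime 3) := ⟨Nat.prime_three⟩
  intro E hE
  haveI := hE.1
  by_contra hgt
  obtain ⟨m, hm⟩ := IsPGroup.iff_card.1 ((hG.to_quotient T).to_subgroup E)
  rw [hm, Nat.pow_le_pow_iff_right (by norm_num)] at hgt
  obtain ⟨E₁, -, -, hE₁⟩ := exists_normal_card ((hG.to_quotient T).to_subgroup E) (N := ⊤) inferInstance 3
    (by rw [Subgroup.card_top, hm]; exact Nat.pow_le_pow_right (by norm_num) (by omega))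
  obtain ⟨hc, hcube⟩ := preimage_of_exponent hTc (E := E₁.map E.subtype)
    (by rw [Subgroup.card_map_of_injective E.subtype_injective, hE₁])
    (by rintro _ ⟨e, -, rfl⟩; exact hE.2 _ e.2)
  refine no_big hall hA2 T hTcen hTc _ hc hcube fun a ha b hb => hTcen ((QuotientGroup.eq_one_iff _).1 ?_)
  show QuotientGroup.mk' T ⁅a, b⁆ = 1
  rw [map_commutatorElement, commutatorElement_eq_one_iff_mul_comm]
  obtain ⟨e, -, he⟩ := ha
  obtain ⟨f, -, hf⟩ := hb
  rw [← he, ← hf]
  exact setLike_mul_comm e.2 f.2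

omit [Finite G] in
theorem bCond_false {A : Subgroup G} [Finite G] (hall : ∀ x : G, x ^ 3 = 1 → x ∈ A) (hA2 : Nat.card A = 3 ^ 2) :
    ¬ BCond 3 G := by
  rintro ⟨E, hEc, hEp, -⟩
  have := (Subgroup.card_le_of_le (fun e he => hall e (hEp e he) : E ≤ A))
  rw [hEc, hA2] at this
  norm_num at this

/-- `3`-groups of rank at most two. -/
theorem three_groups : ∀ (n : ℕ) (G : Type u) [Group G] [Finite G], Nat.card G = 3 ^ n →
    (∀ E : Subgroup G, Cfsg.IsElementaryAbelian 3 E → Nat.card E ≤ 3 ^ 2) →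
    Cfsg.IsMetacyclic G ∨ (2 ≤ n ∧ (⊤ : Subgroup G).lowerCentralSeries (n - 2) ≠ ⊥) ∨ BCond 3 G := by
  classical
  haveI : Fact (Nat.Prime 3) := ⟨Nat.prime_three⟩
  intro n
  induction n using Nat.strong_induction_on with
  | _ n ih =>
  intro G _ _ hG hrk
  have hP : IsPGroup 3 G := IsPGroup.of_card hG
  by_cases hcy : IsCyclic G
  · exact Or.inl isMetacyclic_of_isCyclic
  obtain ⟨A, hAn, hA, hA2⟩ := Cfsg.Agent.S0126.result (p := 3) (by norm_num) hP hcy
  haveI := hAn
  by_cases hall : ∀ x : G, x ^ 3 = 1 → x ∈ A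
  swap
  · push Not at hall
    obtain ⟨x, hxp, hxA⟩ := hall
    rcases case_two (p := 3) (by norm_num) hG hrk hA hA2 hxp hxA with h | h
    · exact Or.inr (Or.inl h.2)
    · exact Or.inr (Or.inr (h.2 rfl))
  have hsm : SmallOmega 3 G := le_trans (Subgroup.card_le_of_le
    ((Subgroup.closure_le A).2 fun x hx => hall x hx.2)) hA2.le
  by_cases hd : Nat.card ↥(commutator G) ≤ 3
  · exact Or.inl (metacyclic_small_derived_odd hP (by norm_num) hsm hd)
  haveI := hP.isNilpotent
  -- the last nontrivial term of the lower central series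
  have hex : ∃ k, (⊤ : Subgroup G).lowerCentralSeries k = ⊥ := ⟨_, Subgroup.lowerCentralSeries_nilpotencyClass⟩
  have h1ne : (⊤ : Subgroup G).lowerCentralSeries 1 ≠ ⊥ := by
    rw [Subgroup.top_lowerCentralSeries_one]
    intro e
    rw [e, Subgroup.card_bot] at hd
    omega
  have hk2 : 2 ≤ Nat.find hex := by
    by_contra h
    exact h1ne (le_bot_iff.1 ((Subgroup.lowerCentralSeries_antitone (S := ⊤) (show Nat.find hex ≤ 1 by omega)).trans
      (Nat.find_spec hex).le))
  set k := Nat.find hex - 1 with hk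
  have hkne : (⊤ : Subgroup G).lowerCentralSeries k ≠ ⊥ := Nat.find_min hex (by omega)
  obtain ⟨T, hTn, hTL, hTc⟩ := exists_normal_card hP (lcs_normal (G := G) k) 1 (by
    rw [pow_one]
    obtain ⟨e, he⟩ := IsPGroup.iff_card.1 (hP.to_subgroup ((⊤ : Subgroup G).lowerCentralSeries k))
    rw [he]
    refine Nat.le_self_pow (fun h0 => hkne (Subgroup.card_eq_one.1 ?_)) 3
    rw [he, h0, pow_zero])
  rw [pow_one] at hTc
  haveI := hTn
  have hTcen : T ≤ Subgroup.center G := le_center_of_card_le hP hTn hTc.le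
  have hTd : T ≤ commutator G := by
    rw [← Subgroup.top_lowerCentralSeries_one]
    exact hTL.trans (Subgroup.lowerCentralSeries_antitone (S := ⊤) (show 1 ≤ k by omega))
  have hn4 : 4 ≤ n := by
    by_contra h
    have h2 := card_lcs_mul_le hG 1 le_rfl h1ne
    rw [Subgroup.top_lowerCentralSeries_one] at h2
    have h3 : (3 : ℕ) ^ n ≤ 3 ^ 3 := Nat.pow_le_pow_right (by norm_num) (by omega)
    omega
  have hQc : Nat.card (G ⧸ T) = 3 ^ (n - 1) := by
    have h := Subgroup.card_eq_card_quotient_mul_card_subgroup T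
    rw [hG, hTc] at h
    refine (Nat.eq_of_mul_eq_mul_right (by norm_num : 0 < 3) ?_).symm
    rw [← h, ← pow_succ]; congr 1; omega
  rcases ih (n - 1) (by omega) (G ⧸ T) hQc (rank_quotient hall hA2 T hTcen hTc hP) with h | h | h
  · exact Or.inl (metacyclic_of_quotient hP T hTd hTc hd h)
  · refine Or.inr (Or.inl ⟨by omega, fun hbot => ?_⟩)
    have hL' : ¬ (⊤ : Subgroup G).lowerCentralSeries (n - 3) ≤ T := by
      intro hle
      refine h.2 ?_
      rw [show n - 1 - 2 = n - 3 by omega, ← lcs_map (QuotientGroup.mk' T) (QuotientGroup.mk'_surjective T),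
        Subgroup.map_eq_bot_iff, QuotientGroup.ker_mk']
      exact hle
    have hfind : k = n - 3 := by
      have h1 : Nat.find hex ≤ n - 2 := Nat.find_min' hex hbot
      have h2 : n - 3 < Nat.find hex := by
        by_contra hle
        exact hL' ((Subgroup.lowerCentralSeries_antitone (S := ⊤) (show Nat.find hex ≤ n - 3 by omega)).trans
          ((Nat.find_spec hex).le.trans bot_le))
      omega
    rw [hfind] at hTL
    refine no_max_quotient hG hn4 hall hA.2 hA2 hbot ?_ hd
    have hne : T ≠ (⊤ : Subgroup G).lowerCentralSeries (n - 3) := fun e => hL' e.ge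
    have := Cfsg.Agent.S4143.card_mul_le_of_lt hP hTL hne
    rw [hTc] at this
    exact this
  · obtain ⟨E, hEc, hEp, d', hd', hcomm⟩ := h
    obtain ⟨d, rfl⟩ := QuotientGroup.mk'_surjective T d'
    obtain ⟨hWc, hcube⟩ := preimage_of_exponent hTc hEc hEp
    have hdg : ∀ g : G, ⁅d, g⁆ ∈ T := fun g => by
      refine (QuotientGroup.eq_one_iff _).1 ?_
      show QuotientGroup.mk' T ⁅d, g⁆ = 1
      rw [map_commutatorElement, commutatorElement_eq_one_iff_mul_comm]
      exact (Subgroup.mem_center_iff.1 hd' _).symm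
    have hd3 : d ^ 3 ∈ Subgroup.center G := Subgroup.mem_center_iff.2 fun g => by
      refine (commutatorElement_eq_one_iff_mul_comm.1 ?_).symm
      rw [comm_pow_left_central (hTcen (hdg g))]
      exact orderOf_dvd_iff_pow_eq_one.1 (hTc ▸ Subgroup.orderOf_dvd_natCard T (hdg g))
    refine (no_big hall hA2 T hTcen hTc _ hWc hcube fun a ha b hb => ?_).elim
    have h := hcomm _ ha _ hb
    rw [← map_commutatorElement, ← map_pow] at h
    obtain ⟨i, hi⟩ := Subgroup.mem_zpowers_iff.1 h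
    rw [← map_zpow] at hi
    have hm : ((d ^ 3) ^ i)⁻¹ * ⁅a, b⁆ ∈ T := QuotientGroup.eq.1 hi
    rw [show ⁅a, b⁆ = (d ^ 3) ^ i * (((d ^ 3) ^ i)⁻¹ * ⁅a, b⁆) by group]
    exact mul_mem (zpow_mem hd3 i) (hTcen hm)

end CfsgLib.Blackburn
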